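import Mathlib

/-!
Elements commuting with an element of order `p` in a central quotient of a linear group in
characteristic `p`.
-/

set_option autoImplicit false

namespace Cfsg.Agent.PSLCent

open Module

universe u

/-- Lift a commuting pair to a commuting pair of orders `p` and `r`. -/
theorem exists_lift {X : Type u} [Group X] [Finite X] {p r : ℕ} [hp : Fact p.Prime]
    (hZ : (Nat.card (Subgroup.center X)).Coprime p) (hr : r.Prime) {a b : X ⧸ Subgroup.center X}
    (ha : orderOf a = p) (hb : r ∣ orderOf b) (hab : Commute a b) :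
    ∃ u B : X, u ≠ 1 ∧ u ^ p = 1 ∧ orderOf B = r ∧ Commute u B := by
  obtain ⟨A, rfl⟩ := QuotientGroup.mk_surjective a
  obtain ⟨B₀, rfl⟩ := QuotientGroup.mk_surjective b
  set m := Nat.card (Subgroup.center X)
  set u := A ^ m with hu
  have hAp : A ^ p ∈ Subgroup.center X := by
    rw [← QuotientGroup.eq_one_iff, QuotientGroup.mk_pow, ← ha, pow_orderOf_eq_one]
  have hu1 : u ≠ 1 := by
    intro h
    have h1 : (A : X ⧸ Subgroup.center X) ^ m = 1 := by rw [← QuotientGroup.mk_pow, ← hu, h]; rfl
    rw [← orderOf_dvd_iff_pow_eq_one, ha] at h1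
    exact hp.out.ne_one (Nat.eq_one_of_dvd_coprimes hZ h1 dvd_rfl)
  have hup : u ^ p = 1 := by
    rw [hu, ← pow_mul, mul_comm, pow_mul]
    exact congrArg Subtype.val (pow_card_eq_one' (x := (⟨A ^ p, hAp⟩ : Subgroup.center X)))
  have hord : r ∣ orderOf B₀ := hb.trans (orderOf_map_dvd (QuotientGroup.mk' _) B₀)
  refine ⟨u, B₀ ^ (orderOf B₀ / r), hu1, hup, orderOf_pow_orderOf_div (orderOf_pos B₀).ne' hord, ?_⟩
  refine Commute.pow_right ?_ _
  set c := u * B₀ * u⁻¹ * B₀⁻¹ with hc
  have hcZ : c ∈ Subgroup.center X := by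
    rw [← QuotientGroup.eq_one_iff, hc, hu]
    simp only [QuotientGroup.mk_mul, QuotientGroup.mk_inv, QuotientGroup.mk_pow]
    rw [(hab.pow_left m).eq, mul_inv_cancel_right, mul_inv_cancel]
  have hpow : ∀ i : ℕ, u ^ i * B₀ * (u ^ i)⁻¹ = c ^ i * B₀ := by
    intro i
    induction i with
    | zero => simp
    | succ i ih =>
      rw [pow_succ', mul_inv_rev,
        show u * u ^ i * B₀ * ((u ^ i)⁻¹ * u⁻¹) = u * (u ^ i * B₀ * (u ^ i)⁻¹) * u⁻¹ by group, ih,
        ← mul_assoc, Subgroup.mem_center_iff.1 (pow_mem hcZ i) u,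
        show c ^ i * u * B₀ * u⁻¹ = c ^ i * (u * B₀ * u⁻¹) by group,
        show u * B₀ * u⁻¹ = c * B₀ by rw [hc]; group, ← mul_assoc, ← pow_succ]
  have hcp : c ^ p = 1 := by
    have h := hpow p
    rw [hup, one_mul, inv_one, mul_one] at h
    exact (mul_eq_right.1 h.symm)
  have hc1 : c = 1 := by
    have h1 : orderOf c ∣ m := by
      rw [show c = ((⟨c, hcZ⟩ : Subgroup.center X) : X) from rfl, Subgroup.orderOf_coe]
      exact orderOf_dvd_natCard _
    exact orderOf_eq_one_iff.1 (Nat.eq_one_of_dvd_coprimes hZ h1 (orderOf_dvd_of_pow_eq_one hcp))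
  rw [hc, mul_inv_eq_one, mul_inv_eq_iff_eq_mul] at hc1
  exact hc1

/-- A nontrivial element of order `p` in characteristic `p` gives a square zero element. -/
theorem exists_sq_zero {R : Type u} [Ring R] (p : ℕ) [hp : Fact p.Prime] [CharP R p] {u : R}
    (hu : u ≠ 1) (hup : u ^ p = 1) :
    ∃ i : ℕ, 1 ≤ i ∧ (u - 1) ^ i ≠ 0 ∧ (u - 1) ^ (i + 1) = 0 := by
  classical
  have : ExpChar R p := ExpChar.prime hp.out
  have h0 : (u - 1) ^ p = 0 := by
    rw [sub_pow_char_of_commute (p := p) (Commute.one_right u), hup, one_pow, sub_self]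
  have hex : ∃ j, (u - 1) ^ j = 0 := ⟨p, h0⟩
  have h2 : 2 ≤ Nat.find hex := by
    by_contra h
    have hs := Nat.find_spec hex
    interval_cases hk : Nat.find hex
    · rw [pow_zero] at hs
      exact hu (by rw [← sub_add_cancel u 1, show u - 1 = (u - 1) * 1 by rw [mul_one], hs, mul_zero, zero_add])
    · rw [pow_one, sub_eq_zero] at hs; exact hu hs
  refine ⟨Nat.find hex - 1, by omega, Nat.find_min hex (by omega), ?_⟩
  rw [show Nat.find hex - 1 + 1 = Nat.find hex by omega]
  exact Nat.find_spec hex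

/-- An element of order `r ≠ p` stabilising the series `V ≥ ker T ≥ range T` of a square zero `T`
is trivial. -/
theorem eq_one_of_series {F : Type*} [Field F] {V : Type*} [AddCommGroup V] [Module F V]
    (p : ℕ) [hp : Fact p.Prime] [CharP F p] {r : ℕ} (hr : r.Prime) (hrp : r ≠ p)
    (T G : Module.End F V) (hT : T * T = 0) (hTG : T * G = G * T) (hG : G ^ r = 1)
    (h1 : ∀ v, G v - v ∈ LinearMap.ker T) (h2 : ∀ v ∈ LinearMap.ker T, G v - v ∈ LinearMap.range T) :
    G = 1 := by
  set M := G - 1 with hM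
  have h3 : M ^ 3 = 0 := by
    refine LinearMap.ext fun v => ?_
    obtain ⟨w, hw⟩ := h2 _ (h1 v)
    have hMM : M (M v) = T w := hw.symm
    show M (M (M v)) = 0
    rw [hMM]
    show G (T w) - T w = 0
    rw [show G (T w) = T (G w) from (LinearMap.congr_fun hTG w).symm, ← map_sub]
    exact LinearMap.mem_ker.1 (h1 w)
  have hexp : ∀ k : ℕ, ((M + 1) ^ (p ^ k) = M ^ (p ^ k) + 1) := by
    intro k
    by_cases hV : Subsingleton V
    · exact LinearMap.ext fun v => Subsingleton.elim _ _
    have : Nontrivial V := not_subsingleton_iff_nontrivial.1 hV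
    have : CharP (Module.End F V) p := charP_of_injective_algebraMap (algebraMap F _).injective p
    have : ExpChar (Module.End F V) p := ExpChar.prime hp.out
    rw [add_pow_char_pow_of_commute (p := p) (n := k) (h := Commute.one_right M), one_pow]
  have h4 : G ^ (p ^ 2) = 1 := by
    have h := hexp 2
    have h5 : M ^ (p ^ 2) = 0 := by
      refine pow_eq_zero_of_le ?_ h3
      have := hp.out.two_le
      nlinarith
    rw [h5, zero_add, hM, sub_add_cancel] at h
    exact h
  rw [← orderOf_eq_one_iff]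
  exact Nat.eq_one_of_dvd_coprimes (((Nat.coprime_primes hr hp.out).2 hrp).pow_right 2)
    (orderOf_dvd_of_pow_eq_one hG) (orderOf_dvd_of_pow_eq_one h4)

/-- The ranks of kernel and range of a nonzero square zero map. -/
theorem finrank_facts {F : Type*} [Field F] {V : Type*} [AddCommGroup V] [Module F V]
    [FiniteDimensional F V] (T : Module.End F V) (hT : T * T = 0) (hT0 : T ≠ 0) :
    LinearMap.range T ≤ LinearMap.ker T ∧ 1 ≤ finrank F (LinearMap.range T) ∧
      finrank F (LinearMap.range T) + finrank F (LinearMap.ker T) = finrank F V ∧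
      2 * finrank F (LinearMap.range T) ≤ finrank F V := by
  have hle : LinearMap.range T ≤ LinearMap.ker T := by
    rintro _ ⟨v, rfl⟩
    exact LinearMap.mem_ker.2 (LinearMap.congr_fun hT v)
  have h1 : 1 ≤ finrank F (LinearMap.range T) := by
    rw [Nat.one_le_iff_ne_zero, ne_eq, Submodule.finrank_eq_zero, LinearMap.range_eq_bot]
    exact hT0
  have h2 := LinearMap.finrank_range_add_finrank_ker T
  have h3 := Submodule.finrank_mono hle
  exact ⟨hle, h1, h2, by omega⟩

end Cfsg.Agent.PSLCent
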