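import Cfsg.Agent.PSLCent.Common
import Cfsg.Agent.Classical.LinearBasic

/-!
The linear case.
-/

set_option autoImplicit false

namespace Cfsg.Agent.PSLCent

open Module Matrix

variable {F : Type*} [Field F] [Fintype F]

theorem dvd_card_gl_of_le {r : ℕ} (hr : r.Prime) {k N : ℕ} (hk : k ≤ N) (hN : 2 ≤ N)
    (h : r ∣ Nat.card (GL (Fin k) F)) : r ∣ Nat.card (GL (Fin N) F) := by
  rw [Matrix.card_GL_field] at h ⊢
  obtain ⟨i, -, hi⟩ := (Nat.Prime.prime hr).exists_mem_finset_dvd h
  have hik : (i : ℕ) < k := i.2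
  rw [show Fintype.card F ^ k - Fintype.card F ^ (i : ℕ) = Fintype.card F ^ (i : ℕ) * (Fintype.card F ^ (k - i) - 1) by
    rw [Nat.mul_sub, ← pow_add, mul_one, Nat.add_sub_cancel' hik.le]] at hi
  rcases hr.dvd_mul.1 hi with h1 | h1
  · have hq := hr.dvd_of_dvd_pow h1
    refine dvd_trans ?_ (Finset.dvd_prod_of_mem _ (Finset.mem_univ (⟨1, by omega⟩ : Fin N)))
    exact Nat.dvd_sub (hq.trans (dvd_pow_self _ (by omega))) (hq.trans (dvd_pow_self _ one_ne_zero))
  · refine dvd_trans h1 (dvd_trans ?_ (Finset.dvd_prod_of_mem _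
      (Finset.mem_univ (⟨N - (k - i), by omega⟩ : Fin N))))
    refine ⟨Fintype.card F ^ (N - (k - i)), ?_⟩
    rw [Nat.sub_one_mul, ← pow_add]
    congr 2
    omega

theorem dvd_card_sl_of_dvd_card_gl {r : ℕ} (hr : r.Prime) {N : ℕ} (hN : 2 ≤ N)
    (h : r ∣ Nat.card (GL (Fin N) F)) : r ∣ Nat.card (Matrix.SpecialLinearGroup (Fin N) F) := by
  have : Nonempty (Fin N) := ⟨⟨0, by omega⟩⟩
  have he := Classical.card_gl_eq_mul_card_sl (ι := Fin N) (F := F)
  rw [he] at h
  rcases hr.dvd_mul.1 h with h1 | h1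
  · have h2 : (Fintype.card F - 1) * (Fintype.card F - 1) ∣ Nat.card (GL (Fin N) F) := by
      rw [Matrix.card_GL_field]
      have hd : ∀ i : Fin N, Fintype.card F - 1 ∣ Fintype.card F ^ N - Fintype.card F ^ (i : ℕ) := by
        intro i
        rw [show Fintype.card F ^ N - Fintype.card F ^ (i : ℕ) = Fintype.card F ^ (i : ℕ) * (Fintype.card F ^ (N - i) - 1) by
          rw [Nat.mul_sub, ← pow_add, mul_one, Nat.add_sub_cancel' i.2.le]]
        exact Dvd.dvd.mul_left (by simpa using Nat.sub_dvd_pow_sub_pow (Fintype.card F) 1 (N - i)) _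
      have hsub : ({⟨0, by omega⟩, ⟨1, by omega⟩} : Finset (Fin N)) ⊆ Finset.univ := Finset.subset_univ _
      refine dvd_trans ?_ (Finset.prod_dvd_prod_of_subset _ _ _ hsub)
      rw [Finset.prod_pair (by simp [Fin.ext_iff])]
      exact mul_dvd_mul (hd _) (hd _)
    rw [he] at h2
    exact h1.trans (Nat.dvd_of_mul_dvd_mul_left (by have := Fintype.one_lt_card (α := F); omega) h2)
  · exact h1

/-- An element of order dividing `r` acts trivially on a section of dimension at most `N`. -/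
theorem sub_mem_of_finrank_le {r : ℕ} (hr : r.Prime) {N : ℕ} (hN : 2 ≤ N)
    (hrd : ¬ r ∣ Nat.card (GL (Fin N) F)) {V : Type*} [AddCommGroup V] [Module F V]
    [FiniteDimensional F V] (G : Module.End F V) (hG : G ^ r = 1) (R U : Submodule F V) (hRU : R ≤ U)
    (hR : ∀ v ∈ R, G v ∈ R) (hU : ∀ v ∈ U, G v ∈ U) (hd : finrank F U ≤ finrank F R + N) :
    ∀ v ∈ U, G v - v ∈ R := by
  let GU : Module.End F U := G.restrict hU
  let R' : Submodule F U := R.comap U.subtype
  have hGU : ∀ (n : ℕ) (v : U), (((GU ^ n) v : U) : V) = (G ^ n) v := by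
    intro n
    induction n with
    | zero => intro v; rfl
    | succ n ih => intro v; rw [pow_succ', pow_succ', Module.End.mul_apply, Module.End.mul_apply, ← ih]; rfl
  let Q := U ⧸ R'
  let g : Module.End F Q := R'.mapQ R' GU (fun v hv => hR _ hv)
  have hgn : ∀ (n : ℕ) (v : U), (g ^ n) (Submodule.Quotient.mk v) = Submodule.Quotient.mk ((GU ^ n) v) := by
    intro n
    induction n with
    | zero => intro v; rfl
    | succ n ih => intro v; rw [pow_succ', pow_succ', Module.End.mul_apply, Module.End.mul_apply, ih]; rfl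
  have hg : g ^ r = 1 := by
    refine LinearMap.ext fun x => ?_
    obtain ⟨v, rfl⟩ := Submodule.Quotient.mk_surjective R' x
    rw [hgn]
    show Submodule.Quotient.mk _ = Submodule.Quotient.mk v
    congr 1
    exact Subtype.ext (by rw [hGU, hG]; rfl)
  have hk : finrank F Q ≤ N := by
    have h1 := Submodule.finrank_quotient_add_finrank R'
    have h2 : finrank F R' = finrank F R := (Submodule.comapSubtypeEquivOfLe hRU).finrank_eq
    show finrank F (U ⧸ R') ≤ N
    omega
  set gu : (Module.End F Q)ˣ := Units.ofPowEqOne g r hg hr.ne_zero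
  let e := Units.mapEquiv (algEquivMatrix (Module.finBasis F Q)).toMulEquiv
  have hgu : gu ^ r = 1 := Units.ext (by rw [Units.val_pow_eq_pow_val]; exact hg)
  have h1 : e gu = 1 := by
    rw [← orderOf_eq_one_iff]
    rcases (Nat.dvd_prime hr).1 (orderOf_dvd_of_pow_eq_one (show e gu ^ r = 1 by rw [← map_pow, hgu, map_one])) with h | h
    · exact h
    · exact absurd (dvd_card_gl_of_le hr hk hN
        ((dvd_of_eq h.symm).trans (orderOf_dvd_natCard _))) hrd
  intro v hv
  have h2 : g = 1 := congrArg Units.val (e.injective (h1.trans (map_one e).symm))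
  have h3 := LinearMap.congr_fun h2 (Submodule.Quotient.mk (⟨v, hv⟩ : U))
  rw [Module.End.one_apply] at h3
  have h4 : (Submodule.Quotient.mk (GU ⟨v, hv⟩) : Q) = Submodule.Quotient.mk ⟨v, hv⟩ := h3
  exact (Submodule.Quotient.eq R').1 h4

/-- The matrix core. -/
theorem no_commuting_pair (p : ℕ) [Fact p.Prime] [CharP F p] {n r : ℕ} (hn : 4 ≤ n) (hr : r.Prime)
    (hrp : r ≠ p) (hrd : ¬ r ∣ Nat.card (GL (Fin (n - 2)) F)) (u B : Matrix (Fin n) (Fin n) F)
    (hu : u ≠ 1) (hup : u ^ p = 1) (hBr : B ^ r = 1) (hc : Commute u B) : B = 1 := by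
  have : Nonempty (Fin n) := ⟨⟨0, by omega⟩⟩
  obtain ⟨i, hi1, hne, hz⟩ := exists_sq_zero p hu hup
  let e := Matrix.toLinAlgEquiv' (R := F) (n := Fin n)
  set T := e ((u - 1) ^ i) with hT
  set G := e B with hG
  have hTT : T * T = 0 := by
    rw [hT, ← map_mul, ← pow_add, pow_eq_zero_of_le (by omega) hz, map_zero]
  have hT0 : T ≠ 0 := fun h => hne (e.injective (h.trans (map_zero e).symm))
  have hTG : T * G = G * T := by
    rw [hT, hG, ← map_mul, ← map_mul, ((hc.sub_left (Commute.one_left B)).pow_left i).eq]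
  have hGr : G ^ r = 1 := by rw [hG, ← map_pow, hBr, map_one]
  obtain ⟨hle, hk1, hsum, hk2⟩ := finrank_facts T hTT hT0
  have hdim : finrank F (Fin n → F) = n := Module.finrank_fin_fun F
  have hker : ∀ v ∈ LinearMap.ker T, G v ∈ LinearMap.ker T := fun v hv => by
    rw [LinearMap.mem_ker, ← Module.End.mul_apply, hTG, Module.End.mul_apply, LinearMap.mem_ker.1 hv, map_zero]
  have hran : ∀ v ∈ LinearMap.range T, G v ∈ LinearMap.range T := by
    rintro _ ⟨w, rfl⟩
    exact ⟨G w, LinearMap.congr_fun hTG w⟩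
  have h1 := sub_mem_of_finrank_le hr (by omega) hrd G hGr (LinearMap.ker T) ⊤ le_top hker
    (fun v _ => Submodule.mem_top) (by rw [finrank_top]; omega)
  have h2 := sub_mem_of_finrank_le hr (by omega) hrd G hGr _ _ hle hran hker (by omega)
  have hG1 := eq_one_of_series p hr hrp T G hTT hTG hGr (fun v => h1 v Submodule.mem_top) h2
  exact e.injective (hG1.trans (map_one e).symm)

end Cfsg.Agent.PSLCent
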