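import Cfsg.Agent.PSLCent.Common
import Cfsg.Agent.Classical.HermGroup

/-!
The unitary case.
-/

set_option autoImplicit false

namespace Cfsg.Agent.PSLCent

open Module Matrix Classical.Herm
open Cfsg.Agent.Classical (hermB hermB_isHerm hermB_apply mem_GU_iff preserves_iff_cols card_GU_formula
  card_SU_mul_eq_GU)

variable {F : Type*} [Field F] [Fintype F] {σ : F →+* F} {q : ℕ}

theorem dvd_card_gu_of_le (hσ : IsInvol σ) (hσq : ∀ x, σ x = x ^ q) (hq : Nat.card (fixField σ) = q)
    {r : ℕ} (hr : r.Prime) {k N : ℕ} (hk : k ≤ N) (hN : 2 ≤ N)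
    (h : r ∣ Nat.card (Cfsg.GU k F q)) : r ∣ Nat.card (Cfsg.GU N F q) := by
  rw [card_GU_formula hσ hσq hq] at h ⊢
  rcases hr.dvd_mul.1 h with h1 | h1
  · refine Dvd.dvd.mul_right ((hr.dvd_of_dvd_pow h1).trans (dvd_pow_self _ ?_)) _
    have : 1 ≤ N * (N - 1) / 2 := by
      rw [Nat.le_div_iff_mul_le (by norm_num)]
      have : 2 * 1 ≤ N * (N - 1) := Nat.mul_le_mul hN (by omega)
      omega
    omega
  · exact Dvd.dvd.mul_left (h1.trans (Finset.prod_dvd_prod_of_subset _ _ _
      (Finset.range_subset_range.2 hk))) _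

theorem dvd_card_su_of_dvd_card_gu (hσ : IsInvol σ) (hσq : ∀ x, σ x = x ^ q)
    (hq : Nat.card (fixField σ) = q) {r : ℕ} (hr : r.Prime) {N : ℕ} (hN : 2 ≤ N)
    (h : r ∣ Nat.card (Cfsg.GU N F q)) : r ∣ Nat.card (Cfsg.SU N F q) := by
  have he := card_SU_mul_eq_GU (n := N) hσ hσq hq (by omega)
  rw [← he] at h
  rcases hr.dvd_mul.1 h with h1 | h1
  · have h2 : (q + 1) * (q + 1) ∣ Nat.card (Cfsg.GU N F q) := by
      rw [card_GU_formula hσ hσq hq]
      refine Dvd.dvd.mul_left (dvd_trans ?_ (Finset.prod_dvd_prod_of_subset {0, 1} _ _ ?_)) _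
      · rw [Finset.prod_pair (by norm_num), if_pos (show Even 0 from Even.zero),
          if_neg (show ¬ Even 1 from Nat.not_even_one), zero_add, pow_one,
          show q ^ (1 + 1) - 1 = (q + 1) * (q - 1) by rw [← Nat.sq_sub_sq, one_pow]]
        exact mul_dvd_mul_left _ (dvd_mul_right _ _)
      · intro x hx
        simp only [Finset.mem_insert, Finset.mem_singleton] at hx
        rw [Finset.mem_range]
        omega
    rw [← he] at h2
    exact h1.trans (Nat.dvd_of_mul_dvd_mul_left (by omega) h2)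
  · exact h1

/-- An isometry of order dividing `r` fixes a Hermitian space of dimension at most `N` modulo its
radical. -/
theorem sub_mem_of_isometry (hσ : IsInvol σ) (hσq : ∀ x, σ x = x ^ q)
    (hq : Nat.card (fixField σ) = q) {r : ℕ} (hr : r.Prime) {N : ℕ} (hN : 2 ≤ N)
    (hrd : ¬ r ∣ Nat.card (Cfsg.GU N F q)) {V : Type*} [AddCommGroup V] [Module F V]
    [FiniteDimensional F V] (h : V →ₛₗ[σ] V →ₗ[F] F) (hsym : ∀ x y, σ (h x y) = h y x)
    (R : Submodule F V) (hR : ∀ x, x ∈ R ↔ ∀ y, h x y = 0)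
    (G : Module.End F V) (hG : G ^ r = 1) (hiso : ∀ x y, h (G x) (G y) = h x y)
    (hd : finrank F V ≤ finrank F R + N) : ∀ v, G v - v ∈ R := by
  obtain ⟨W, hW⟩ := Submodule.exists_isCompl R
  have hRl : ∀ x ∈ R, ∀ y, h y x = 0 := fun x hx y => by rw [← hsym, (hR x).1 hx y, map_zero]
  let hW' : W →ₛₗ[σ] W →ₗ[F] F := (h.compl₂ W.subtype).comp W.subtype
  have hherm : IsHerm hW' :=
    { toIsInvol := hσ
      symm := fun x y => hsym _ _
      nondeg := fun x hx => by
        have hxR : (x : V) ∈ R := (hR _).2 fun y => by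
          obtain ⟨a, ha, b, hb, rfl⟩ := Submodule.mem_sup.1 (hW.sup_eq_top.symm ▸ Submodule.mem_top : y ∈ R ⊔ W)
          have h0 : h (x : V) b = 0 := hx ⟨b, hb⟩
          rw [map_add, hRl a ha, h0, add_zero]
        have := Submodule.disjoint_def.1 hW.disjoint _ hxR x.2
        exact Subtype.ext this }
  obtain ⟨k, hkW, e, he⟩ : ∃ k : ℕ, k = finrank F W ∧ ∃ e : Basis (Fin k) F W, IsON hW' e :=
    ⟨_, rfl, exists_orthonormal hherm⟩
  have hk : k ≤ N := by
    have := Submodule.finrank_add_eq_of_isCompl hW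
    omega
  let f : Fin k → V := fun i => (e i : V)
  have hf : ∀ i j, h (f i) (f j) = if i = j then 1 else 0 := he
  have hexp : ∀ v, v - ∑ i, h (f i) v • f i ∈ R := fun v => (hR _).2 fun y => by
    obtain ⟨a, ha, b, hb, rfl⟩ := Submodule.mem_sup.1 (hW.sup_eq_top.symm ▸ Submodule.mem_top : y ∈ R ⊔ W)
    rw [map_add, hRl a ha, zero_add]
    set x := v - ∑ i, h (f i) v • f i with hx
    have hperp : ∀ i, h (f i) x = 0 := fun i => by
      simp [hx, map_sum, hf]
    have hb' : b = ∑ i, (e.repr ⟨b, hb⟩) i • f i := by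
      have := congrArg Subtype.val (e.sum_repr ⟨b, hb⟩)
      rw [AddSubmonoidClass.coe_finsetSum] at this
      exact this.symm
    rw [hb', map_sum]
    refine Finset.sum_eq_zero fun i _ => ?_
    rw [map_smul, ← hsym, hperp i, map_zero, smul_zero]
  have hpw : ∀ v w, v - w ∈ R → ∀ x, h x v = h x w := fun v w hvw x => by
    rw [← sub_eq_zero, ← map_sub, hRl _ hvw]
  have hGs : Function.Surjective G := fun x => ⟨(G ^ (r - 1)) x, by
    rw [← Module.End.mul_apply, ← pow_succ', Nat.sub_add_cancel hr.one_le, hG]; rfl⟩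
  have hGR : ∀ x ∈ R, G x ∈ R := fun x hx => (hR _).2 fun y => by
    obtain ⟨z, rfl⟩ := hGs y
    rw [hiso]; exact (hR x).1 hx z
  let A : Matrix (Fin k) (Fin k) F := Matrix.of fun i j => h (f i) (G (f j))
  have hA : ∀ n : ℕ, A ^ n = Matrix.of fun i j => h (f i) ((G ^ n) (f j)) := by
    intro n
    induction n with
    | zero => ext i j; simp [Matrix.one_apply, hf]
    | succ n ih =>
      ext i j
      rw [pow_succ', ih, Matrix.mul_apply, Matrix.of_apply, pow_succ', Module.End.mul_apply,
        hpw _ _ (show G ((G ^ n) (f j)) - G (∑ l, h (f l) ((G ^ n) (f j)) • f l) ∈ R by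
          rw [← map_sub]; exact hGR _ (hexp _)),
        map_sum, map_sum]
      refine Finset.sum_congr rfl fun l _ => ?_
      simp [A, mul_comm]
  have hAr : A ^ r = 1 := by
    rw [hA, hG]
    ext i j
    simp [Matrix.one_apply, hf]
  set Au : GL (Fin k) F := Units.ofPowEqOne A r hAr hr.ne_zero
  have hAu : Au ∈ Cfsg.GU k F q := by
    rw [mem_GU_iff hσq]
    rw [preserves_iff_cols]
    intro i j
    rw [← hf i j, ← hiso (f i) (f j), hpw _ _ (hexp (G (f j))) (G (f i)), hermB_apply, map_sum]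
    refine Finset.sum_congr rfl fun l _ => ?_
    rw [map_smul, smul_eq_mul, ← hsym (f l) (G (f i))]
    simp [Au, A, Matrix.mulVec_single, mul_comm]
  have h1 : (⟨Au, hAu⟩ : Cfsg.GU k F q) = 1 := by
    rw [← orderOf_eq_one_iff]
    have hp : (⟨Au, hAu⟩ : Cfsg.GU k F q) ^ r = 1 :=
      Subtype.ext (Units.ext (by rw [SubmonoidClass.coe_pow, Units.val_pow_eq_pow_val]; exact hAr))
    rcases (Nat.dvd_prime hr).1 (orderOf_dvd_of_pow_eq_one hp) with h | h
    · exact h
    · exact absurd (dvd_card_gu_of_le hσ hσq hq hr hk hN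
        ((dvd_of_eq h.symm).trans (orderOf_dvd_natCard _))) hrd
  have hA1 : A = 1 := congrArg (fun z : Cfsg.GU k F q => (z.1 : Matrix (Fin k) (Fin k) F)) h1
  have hfix : ∀ j, G (f j) - f j ∈ R := fun j => by
    have hsum : (∑ i, h (f i) (G (f j)) • f i) = f j := by
      rw [Finset.sum_eq_single j]
      · rw [show h (f j) (G (f j)) = A j j from rfl, hA1, Matrix.one_apply_eq, one_smul]
      · intro i _ hij
        rw [show h (f i) (G (f j)) = A i j from rfl, hA1, Matrix.one_apply_ne hij, zero_smul]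
      · simp
    have := hexp (G (f j))
    rwa [hsum] at this
  intro v
  have e1 := R.add_mem (R.sub_mem (hGR _ (hexp v)) (hexp v))
    (R.sum_mem (t := Finset.univ) (f := fun i => h (f i) v • (G (f i) - f i))
      fun i _ => R.smul_mem _ (hfix i))
  convert e1 using 1
  simp only [map_sub, map_sum, map_smul, smul_sub, Finset.sum_sub_distrib]
  abel

/-- The matrix core. -/
theorem no_commuting_pair_unitary (hσ : IsInvol σ) (hσq : ∀ x, σ x = x ^ q)
    (hq : Nat.card (fixField σ) = q) (p : ℕ) [Fact p.Prime] [CharP F p] {n r : ℕ} (hn : 4 ≤ n)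
    (hr : r.Prime) (hrp : r ≠ p) (hrd : ¬ r ∣ Nat.card (Cfsg.GU (n - 2) F q))
    (u B : Matrix (Fin n) (Fin n) F)
    (huu : ∀ v w, hermB n σ (u *ᵥ v) (u *ᵥ w) = hermB n σ v w)
    (hBB : ∀ v w, hermB n σ (B *ᵥ v) (B *ᵥ w) = hermB n σ v w)
    (hu : u ≠ 1) (hup : u ^ p = 1) (hBr : B ^ r = 1) (hc : Commute u B) : B = 1 := by
  have : Nonempty (Fin n) := ⟨⟨0, by omega⟩⟩
  have hp : p.Prime := Fact.out
  obtain ⟨i, hi1, hne, hz⟩ := exists_sq_zero p hu hup
  set u' := u ^ (p - 1) with hu'
  have hu'u : u * u' = 1 := by rw [hu', ← pow_succ', Nat.sub_add_cancel hp.one_le, hup]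
  have hu'u' : u' * u = 1 := by rw [hu', ← pow_succ, Nat.sub_add_cancel hp.one_le, hup]
  have hcu : Commute u' (u - 1) := (((Commute.refl u).pow_left _).sub_right (Commute.one_right _))
  set M := (u - 1) ^ i with hM
  have hadj : ∀ (j : ℕ) v w, hermB n σ ((u - 1) ^ j *ᵥ v) w = hermB n σ v ((u' - 1) ^ j *ᵥ w) := by
    intro j
    induction j with
    | zero => intro v w; simp
    | succ j ih =>
      intro v w
      have h1 : ∀ x y, hermB n σ (u *ᵥ x) y = hermB n σ x (u' *ᵥ y) := fun x y => by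
        conv_rhs => rw [← huu x (u' *ᵥ y), Matrix.mulVec_mulVec, hu'u, Matrix.one_mulVec]
      rw [pow_succ', ← Matrix.mulVec_mulVec, Matrix.sub_mulVec, Matrix.one_mulVec, map_sub,
        LinearMap.sub_apply, h1, ih, ih, ← map_sub, ← Matrix.mulVec_sub, pow_succ,
        ← Matrix.mulVec_mulVec, Matrix.sub_mulVec, Matrix.one_mulVec]
  have hu'M : u' * M = M := by
    have h0 : u * M = M := by
      have h1 : (u - 1) * M = 0 := by rw [hM, ← pow_succ']; exact hz
      rwa [sub_mul, one_mul, sub_eq_zero] at h1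
    calc u' * M = u' * (u * M) := by rw [h0]
      _ = M := by rw [← mul_assoc, hu'u', one_mul]
  have hu'i : (u' - 1) ^ i = (-1) ^ i * M := by
    have e : u' - 1 = -1 * (u' * (u - 1)) := by
      rw [mul_sub, hu'u', mul_one, neg_one_mul, neg_sub]
    rw [e, (Commute.neg_one_left _).mul_pow, hcu.mul_pow, ← hM]
    congr 1
    have hall : ∀ t : ℕ, u' ^ t * M = M := by
      intro t
      induction t with
      | zero => simp
      | succ t iht => rw [pow_succ, mul_assoc, hu'M, iht]
    exact hall i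
  set ε : F := (-1) ^ i with hε
  have hεε : ε * ε = 1 := by rw [hε, ← mul_pow, neg_one_mul, neg_neg, one_pow]
  have hskew : ∀ v w, hermB n σ (M *ᵥ v) w = ε * hermB n σ v (M *ᵥ w) := by
    intro v w
    rw [hM, hadj i v w, hu'i, hM,
      show ((-1 : Matrix (Fin n) (Fin n) F)) ^ i * (u - 1) ^ i = ε • (u - 1) ^ i by
        rw [hε, ← neg_one_smul F (1 : Matrix (Fin n) (Fin n) F), smul_pow, one_pow, smul_one_mul],
      Matrix.smul_mulVec, map_smul, smul_eq_mul]
  let e := Matrix.toLinAlgEquiv' (R := F) (n := Fin n)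
  set T := e M with hT
  set G := e B with hG
  have hTv : ∀ v, T v = M *ᵥ v := fun v => rfl
  have hGv : ∀ v, G v = B *ᵥ v := fun v => rfl
  have hTT : T * T = 0 := by
    rw [hT, ← map_mul, hM, ← pow_add, pow_eq_zero_of_le (by omega) hz, map_zero]
  have hT0 : T ≠ 0 := fun h => hne (hM ▸ e.injective (h.trans (map_zero e).symm))
  have hTG : T * G = G * T := by
    rw [hT, hG, hM, ← map_mul, ← map_mul, ((hc.sub_left (Commute.one_left B)).pow_left i).eq]
  have hGr : G ^ r = 1 := by rw [hG, ← map_pow, hBr, map_one]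
  obtain ⟨hle, hk1, hsum, hk2⟩ := finrank_facts T hTT hT0
  have hdim : finrank F (Fin n → F) = n := Module.finrank_fin_fun F
  have hH := hermB_isHerm hσ n
  -- a scalar turning the form `⟨v, T w⟩` into a Hermitian one
  obtain ⟨c, hc0, hcσ⟩ : ∃ c : F, c ≠ 0 ∧ σ c * ε = c := by
    rcases neg_one_pow_eq_or F i with h | h
    · exact ⟨1, one_ne_zero, by rw [map_one, hε, h, one_mul]⟩
    · obtain ⟨k, hk0, hk⟩ := exists_skew hσ
      exact ⟨k, hk0, by rw [hk, hε, h, mul_neg, mul_one, neg_neg]⟩
  let β : (Fin n → F) →ₛₗ[σ] (Fin n → F) →ₗ[F] F := LinearMap.mk₂'ₛₗ σ (RingHom.id F)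
    (fun v w => c * hermB n σ v (T w))
    (fun v v' w => by simp [mul_add])
    (fun a v w => by simp [mul_left_comm])
    (fun v w w' => by simp [mul_add])
    (fun a v w => by simp [mul_left_comm])
  have hTsk : ∀ v w, hermB n σ (T v) w = ε * hermB n σ v (T w) := hskew
  have hβsym : ∀ x y, σ (β x y) = β y x := fun x y => by
    show σ (c * hermB n σ x (T y)) = c * hermB n σ y (T x)
    rw [map_mul, hH.symm, hTsk, ← mul_assoc, hcσ]
  have hkerR : ∀ x, x ∈ LinearMap.ker T ↔ ∀ y, β x y = 0 := fun x => by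
    show _ ↔ ∀ y, c * hermB n σ x (T y) = 0
    simp only [mul_eq_zero, hc0, false_or, LinearMap.mem_ker]
    constructor
    · intro h y
      have h1 := hTsk x y
      rw [h, LinearMap.map_zero₂] at h1
      rcases mul_eq_zero.1 h1.symm with h2 | h2
      · rw [h2, zero_mul] at hεε; exact absurd hεε zero_ne_one
      · exact h2
    · intro h
      exact hH.nondeg _ fun y => by rw [hTsk, h, mul_zero]
  have hGiso : ∀ x y, β (G x) (G y) = β x y := fun x y => by
    show c * hermB n σ (G x) (T (G y)) = c * hermB n σ x (T y)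
    rw [← Module.End.mul_apply, hTG, Module.End.mul_apply, hGv, hGv, hBB]
  have h1 := sub_mem_of_isometry hσ hσq hq hr (by omega) hrd β hβsym (LinearMap.ker T) hkerR G hGr
    hGiso (by omega)
  set K := LinearMap.ker T with hK
  have hGK : ∀ v ∈ K, G v ∈ K := fun v hv => by
    have : T v = 0 := LinearMap.mem_ker.1 hv
    rw [hK, LinearMap.mem_ker, ← Module.End.mul_apply, hTG, Module.End.mul_apply, this, map_zero]
  let hKf : K →ₛₗ[σ] K →ₗ[F] F := ((hermB n σ).compl₂ K.subtype).comp K.subtype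
  let GK : Module.End F K := G.restrict hGK
  have hGK' : ∀ (m : ℕ) (v : K), (((GK ^ m) v : K) : Fin n → F) = (G ^ m) v := by
    intro m
    induction m with
    | zero => intro v; rfl
    | succ m ih => intro v; rw [pow_succ', pow_succ', Module.End.mul_apply, Module.End.mul_apply, ← ih]; rfl
  let R' : Submodule F K := (LinearMap.range T).comap K.subtype
  have hR' : finrank F R' = finrank F (LinearMap.range T) :=
    (Submodule.comapSubtypeEquivOfLe hle).finrank_eq
  -- the radical of the form on the kernel is the range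
  have hrad : ∀ x : K, x ∈ R' ↔ ∀ y, hKf x y = 0 := by
    have hfwd : ∀ w : Fin n → F, ∀ y ∈ K, hermB n σ (T w) y = 0 := fun w y hy => by
      have hy0 : T y = 0 := LinearMap.mem_ker.1 hy
      rw [hTsk, hy0, map_zero, mul_zero]
    intro x
    constructor
    · rintro ⟨w, hw⟩ y
      show hermB n σ (x : Fin n → F) (y : Fin n → F) = 0
      rw [show (x : Fin n → F) = T w from hw.symm]
      exact hfwd w y y.2
    · intro hx
      have hvan : K ≤ LinearMap.ker (hermB n σ (x : Fin n → F)) := fun y hy => hx ⟨y, hy⟩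
      have hinjB : Function.Injective (hermB n σ) := fun a b hab =>
        sub_eq_zero.1 (hH.nondeg _ fun y => by rw [map_sub, hab, sub_self]; rfl)
      let ψ : LinearMap.range T → K.dualAnnihilator := fun w => ⟨hermB n σ (w : Fin n → F),
        (Submodule.mem_dualAnnihilator _).2 fun y hy => by
          obtain ⟨v, hv⟩ := w.2
          rw [← hv]
          exact hfwd v y hy⟩
      have hψi : Function.Injective ψ := fun a b hab =>
        Subtype.ext (hinjB (congrArg (fun z : K.dualAnnihilator => (z : Module.Dual F (Fin n → F))) hab))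
      have hcard : Nat.card (LinearMap.range T) = Nat.card K.dualAnnihilator := by
        have h1 := Subspace.finrank_add_finrank_dualAnnihilator_eq K
        rw [Module.natCard_eq_pow_finrank (K := F), Module.natCard_eq_pow_finrank (K := F) (V := K.dualAnnihilator)]
        congr 1
        omega
      have : Finite K.dualAnnihilator :=
        Finite.of_injective (fun z => ((z : Module.Dual F (Fin n → F)) : (Fin n → F) → F))
          fun a b hab => Subtype.ext (DFunLike.coe_injective hab)
      obtain ⟨w, hw⟩ := ((Nat.bijective_iff_injective_and_card ψ).2 ⟨hψi, hcard⟩).2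
        ⟨hermB n σ (x : Fin n → F), (Submodule.mem_dualAnnihilator _).2 fun y hy => hvan hy⟩
      have := hinjB (congrArg (fun z : K.dualAnnihilator => (z : Module.Dual F (Fin n → F))) hw)
      show (x : Fin n → F) ∈ LinearMap.range T
      rw [← this]
      exact w.2
  have h2 := sub_mem_of_isometry hσ hσq hq hr (by omega) hrd hKf (fun x y => hH.symm _ _) R' hrad GK
    (LinearMap.ext fun v => Subtype.ext (by rw [hGK', hGr]; rfl))
    (fun x y => by show hermB n σ (G x) (G y) = hermB n σ x y; rw [hGv, hGv, hBB]) (by omega)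
  have hG1 := eq_one_of_series p hr hrp T G hTT hTG hGr h1 fun v hv => h2 ⟨v, hv⟩
  exact e.injective (hG1.trans (map_one e).symm)

end Cfsg.Agent.PSLCent
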